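import Cfsg.Agent.H810.RC.Core
import Cfsg.Agent.H686.RC.DeadD
import Cfsg.Agent.H579.RC.Sym
import Cfsg.Agent.H8.RC.DeadHer

/-!
# S3510, row D, box D9: `PSp_4(5)` with members of orders 2 and 3 (helper810)

`dead_five_of` : contradiction, with the box D4 (`dead_dec`) as the hypothesis `bDec`.
-/

set_option autoImplicit false
open Cfsg

namespace Cfsg.Agent.H810.RC

open MulAction Module Cfsg.Agent.H106.RC Cfsg.Agent.H520.RC Cfsg.Agent.H727.GW

section gen

variable {F : Type*} {V : Type*} [Field F] [AddCommGroup V] [Module F V]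
  {B : LinearMap.BilinForm F V} {G : Type*} [Group G] {Ω : Type*} [MulAction G Ω]
  {N : Subgroup G} {ρ : ↥(Sp B) →* G}

/-- an isometry lifting `x`, of the same order, when the `n`-th power map is injective on `F` -/
theorem exists_isom [Finite F] [FiniteDimensional F V] (E : SpEnv Ω N ρ) {n : ℕ} (hn : n ≠ 0)
    (hinj : Function.Injective (fun a : F => a ^ n)) {x : G}
    {M : SS B} (hM : Lf ρ x M) (hl : M.IsLin) (hx : x ^ n = 1) :
    ∃ (t : ↥(Sp B)) (c : F), c ≠ 0 ∧ (∀ v, M v = c • t.1 v) ∧ x = ρ t ∧ ∀ v, t.1^[n] v = v := by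
  obtain ⟨b, hb, h2⟩ := E.pow_scal hM hx
  obtain ⟨c, hc⟩ := (Finite.injective_iff_surjective.1 hinj) b
  change c ^ n = b at hc
  have hc0 : c ≠ 0 := by
    rintro rfl
    rw [zero_pow hn] at hc
    exact hb hc.symm
  obtain ⟨w, hw⟩ := exists_vec E
  obtain ⟨w', hw'⟩ := E.form.exists_one hw
  have hlp : ∀ n : ℕ, ∀ u v, B (M^[n] u) (M^[n] v) = M.l ^ n * B u v := by
    intro n
    induction n with
    | zero => intro u v; rw [pow_zero, one_mul]; rfl
    | succ n ih =>
      intro u v
      rw [Function.iterate_succ_apply, Function.iterate_succ_apply, ih, hl.form, pow_succ, mul_assoc]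
  have hl2 : M.l = c * c := by
    apply hinj
    show M.l ^ n = (c * c) ^ n
    have h3 := hlp n w w'
    rw [h2, h2, hw', mul_one, _root_.map_smul, LinearMap.map_smul₂, hw', smul_eq_mul, smul_eq_mul, mul_one] at h3
    rw [← h3, mul_pow, hc]
  let t0 : V ≃ₗ[F] V := (hl.lin).trans (LinearEquiv.smulOfUnit (Units.mk0 c⁻¹ (inv_ne_zero hc0)))
  have ht0 : ∀ v, t0 v = c⁻¹ • M v := fun v => rfl
  have htm : t0 ∈ Sp B := by
    intro u v
    rw [ht0, ht0, _root_.map_smul, LinearMap.map_smul₂, hl.form, hl2, smul_eq_mul, smul_eq_mul]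
    field_simp
  refine ⟨⟨t0, htm⟩, c, hc0, ?_, ?_, ?_⟩
  · intro v
    show M v = c • t0 v
    rw [ht0, smul_smul, mul_inv_cancel₀ hc0, one_smul]
  · apply E.eq_of_lf hM hc0
    intro v
    show M v = c • t0 v
    rw [ht0, smul_smul, mul_inv_cancel₀ hc0, one_smul]
  · intro v
    have h3 : ∀ (n : ℕ) (v : V), t0^[n] v = (c⁻¹) ^ n • M^[n] v := by
      intro n
      induction n with
      | zero => intro v; rw [pow_zero, one_smul]; rfl
      | succ n ih =>
        intro v
        rw [Function.iterate_succ_apply, ih, ht0, iter_smul (fun a v => hl.map_smul a v), smul_smul,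
          Function.iterate_succ_apply, pow_succ]
    show t0^[n] v = v
    rw [h3, h2, smul_smul, inv_pow, hc, inv_mul_cancel₀ hb, one_smul]

/-- nonzero combinations over `F[θ]`, `θ² = δ` a nonsquare, are injective -/
theorem quad_inj {θ : Module.End F V} {δ : F} (hδ : ¬ IsSquare δ) (hsq : ∀ v, θ (θ v) = δ • v) {p q : F} {w : V}
    (hw : w ≠ 0) (h : p • w + q • θ w = 0) : p = 0 ∧ q = 0 := by
  have h1 : (p * p - δ * (q * q)) • w = 0 := by
    have h2 := congrArg (fun z => p • z - q • θ z) h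
    simp only [map_add, _root_.map_smul, hsq, smul_add, smul_smul, map_zero, smul_zero, sub_zero] at h2
    rw [sub_smul, ← h2, mul_comm p q, mul_comm δ (q * q), mul_assoc q q δ]
    abel
  rcases smul_eq_zero.1 h1 with h2 | h2
  · have hq : q = 0 := by
      by_contra hq
      apply hδ
      refine ⟨p / q, ?_⟩
      field_simp
      linear_combination -h2
    subst hq
    refine ⟨?_, rfl⟩
    have h3 : p * p = 0 := by linear_combination h2
    exact mul_self_eq_zero.1 h3
  · exact absurd h2 hw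

/-- an invariant subspace `≠ 0` of a quadratic operator has dimension at least 2 -/
theorem two_le_of_quad [FiniteDimensional F V] {θ : V → V} {δ : F} (hδ : ¬ IsSquare δ)
    (hlin : ∀ (a : F) v, θ (a • v) = a • θ v) (hsq : ∀ v, θ (θ v) = δ • v) {W : Submodule F V}
    (hW : W ≠ ⊥) (hi : ∀ v ∈ W, θ v ∈ W) : 2 ≤ finrank F W := by
  obtain ⟨v, hv, hv0⟩ := Submodule.exists_mem_ne_zero_of_ne_bot hW
  have hli : LinearIndependent F ![(⟨v, hv⟩ : W), ⟨θ v, hi v hv⟩] := by
    rw [LinearIndependent.pair_iff]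
    intro s t hst
    have h1 : s • v + t • θ v = 0 := congrArg Subtype.val hst
    by_cases ht : t = 0
    · rw [ht, zero_smul, add_zero] at h1
      rcases smul_eq_zero.1 h1 with h2 | h2
      · exact ⟨h2, ht⟩
      · exact absurd h2 hv0
    · exfalso
      apply hδ
      have h2 : θ v = (-(t⁻¹ * s)) • v := by
        have h3 : t • θ v = -(s • v) := by rw [eq_neg_iff_add_eq_zero, add_comm]; exact h1
        have h4 := congrArg (fun z => t⁻¹ • z) h3
        simp only [smul_smul, smul_neg, inv_mul_cancel₀ ht, one_smul] at h4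
        rw [h4, neg_smul]
      have h3 := hsq v
      rw [h2, hlin, h2, smul_smul] at h3
      have h4 : (-(t⁻¹ * s) * -(t⁻¹ * s) - δ) • v = 0 := by rw [sub_smul, h3, sub_self]
      rcases smul_eq_zero.1 h4 with h5 | h5
      · exact ⟨-(t⁻¹ * s), by linear_combination -h5⟩
      · exact absurd h5 hv0
  have := hli.fintype_card_le_finrank
  simpa using this

end gen

variable {F : Type} {V : Type} [Field F] [Finite F] [AddCommGroup V] [Module F V] [FiniteDimensional F V]
  {B : LinearMap.BilinForm F V} {G : Type} [Group G] {Ω : Type} [MulAction G Ω]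
  {N : Subgroup G} {ρ : ↥(Sp B) →* G} {ι : Type} {x : ι → G} {r : ι → ℕ} {M : ι → SS B}

/-- a nondegenerate plane, `q = 5` -/
theorem plane_dead (E : SpEnv Ω N ρ) (hx : PF x r)
    (hM : ∀ i, Lf ρ (x i) (M i)) (hl : ∀ i, (M i).IsLin) (hF5 : Nat.card F = 5)
    (bDec : ∀ A : Submodule F V, A ≠ ⊥ → A ≠ ⊤ → (∀ a ∈ A, (∀ b ∈ A, B a b = 0) → a = 0) →
      (∀ i, ∀ v ∈ A, M i v ∈ A) → (∀ i, ¬ (r i).Coprime (Nat.card F) → ¬ (M i).ScalOn A) →
      (∀ i j, ¬ (M i).ScalOn A → ¬ (M j).ScalOn A → i = j) → False)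
    {W : Submodule F V} (hW0 : W ≠ ⊥) (hW1 : W ≠ ⊤) (hW : Nd B W) (hWi : ∀ i, ∀ v ∈ W, M i v ∈ W)
    (hWd : finrank F W = 2) (hWu : ∀ i, ¬ (r i).Coprime (Nat.card F) → ¬ (M i).ScalOn W)
    (hno : ∀ i j, r i = 2 → r j = 3 → ¬ (M i).ScalOn W → ¬ (M j).ScalOn W → False) : False := by
  have hpow : ∀ i, ∃ b : F, b ≠ 0 ∧ ∀ v, (M i)^[r i] v = b • v := fun i => E.pow_scal (hM i) (hx.pow i)
  refine bDec W hW0 hW1 hW hWi hWu ?_
  by_cases hu : ∃ i0, ¬ (r i0).Coprime (Nat.card F)
  · obtain ⟨i0, hi0⟩ := hu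
    have : CharP F (r i0) := charP_of hx hi0
    obtain ⟨t, c, hc, hMt, hxt, htp⟩ := exists_unip E (hx.prime i0) (hM i0) (hl i0) (hx.pow i0)
    have hti : ∀ v ∈ W, t.1 v ∈ W := by
      intro v hv
      have h7 := W.smul_mem c⁻¹ (hWi i0 v hv)
      rw [hMt, smul_smul, inv_mul_cancel₀ hc, one_smul] at h7
      exact h7
    have hne : ∃ v ∈ W, t.1 v ≠ v := by
      by_contra hno
      push Not at hno
      apply hWu i0 hi0
      refine ⟨c, hc, fun v hv => ?_⟩
      rw [hMt, hno v hv]
    obtain ⟨e, -, -, c', -, -, hsc⟩ := plane_unip E.form (hx.prime i0) htp hW hWd hti hne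
    have key : ∀ j, j ≠ i0 → (M j).ScalOn W := by
      intro j hj
      refine hsc (M j) (r j) (hl j) (hWi j) ?_ ?_ ?_
      · intro v
        have h7 := comm_all E hx hM hl i0 j v
        rw [hMt, hMt, (hl j).map_smul] at h7
        have h8 := congrArg (fun w => c⁻¹ • w) h7
        simp only [smul_smul, inv_mul_cancel₀ hc, one_smul] at h8
        exact h8.symm
      · have hco : (r j).Coprime (Nat.card F) := by
          by_contra hno
          have h9 := charP_of hx hno
          exact hj (hx.inj (CharP.eq F h9 this))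
        exact cast_ne hco (hx.prime i0)
      · obtain ⟨b, -, hb⟩ := hpow j
        exact ⟨b, hb⟩
    intro i j hni hnj
    have h7 : i = i0 := by
      by_contra h
      exact hni (key i h)
    have h8 : j = i0 := by
      by_contra h
      exact hnj (key j h)
    rw [h7, h8]
  · push Not at hu
    intro i j hni hnj
    have h7 := ord_five hF5 (hl i) hWd (hWi i) (hx.prime i) (hu i) (hpow i) hni
    have h8 := ord_five hF5 (hl j) hWd (hWi j) (hx.prime j) (hu j) (hpow j) hnj
    apply hx.inj
    rcases h7 with h7 | h7 <;> rcases h8 with h8 | h8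
    · rw [h7, h8]
    · exact (hno i j h7 h8 hni hnj).elim
    · exact (hno j i h8 h7 hnj hni).elim
    · rw [h7, h8]

/-- the primes of `PSp_4(5)` -/
theorem prime_five [Finite G] (E : SpEnv Ω N ρ) (hx : PF x r)
    (hM : ∀ i, Lf ρ (x i) (M i)) (hl : ∀ i, (M i).IsLin) (hF5 : Nat.card F = 5) (h4 : finrank F V = 4) {k : ι}
    (h2 : r k ≠ 2) (h3 : r k ≠ 3) (h5 : r k ≠ 5) : r k = 13 := by
  have := Fintype.ofFinite F
  have hl0 := (M k).hl
  let t0 : V ≃ₗ[F] V := ((hl k).lin.trans (hl k).lin).trans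
    (LinearEquiv.smulOfUnit (Units.mk0 (M k).l⁻¹ (inv_ne_zero hl0)))
  have ht0 : ∀ v, t0 v = (M k).l⁻¹ • M k (M k v) := fun v => rfl
  have htm : t0 ∈ Sp B := by
    intro u v
    rw [ht0, ht0, _root_.map_smul, LinearMap.map_smul₂, (hl k).form, (hl k).form, smul_eq_mul, smul_eq_mul]
    field_simp
  have h6 : x k * x k = ρ ⟨t0, htm⟩ := by
    refine E.eq_of_lf ((hM k).mul (hM k)) hl0 fun v => ?_
    show M k (M k v) = (M k).l • t0 v
    rw [ht0, smul_smul, mul_inv_cancel₀ hl0, one_smul]
  have h7 : orderOf (x k) = r k := by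
    rcases (Nat.dvd_prime (hx.prime k)).1 (orderOf_dvd_of_pow_eq_one (hx.pow k)) with h | h
    · exact absurd (orderOf_eq_one_iff.1 h) (hx.ne k)
    · exact h
  have h8 : orderOf (x k * x k) = r k := by
    rw [← pow_two, orderOf_pow' _ two_ne_zero, h7]
    have : (r k).gcd 2 = 1 := by
      have := (Nat.coprime_primes (hx.prime k) Nat.prime_two).2 h2
      exact this.gcd_eq_one
    rw [this, Nat.div_one]
  have hfin : Finite (V ≃ₗ[F] V) := by
    have : Finite V := Module.finite_of_finite F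
    exact Finite.of_injective (fun f : V ≃ₗ[F] V => (f : V → V)) DFunLike.coe_injective
  have h9 : r k ∣ Nat.card (Sp B) := by
    rw [← h8, h6]
    exact (orderOf_map_dvd ρ _).trans (orderOf_dvd_natCard _)
  have h10 : Nat.card (Sp B) = 2 ^ 7 * 3 ^ 2 * 5 ^ 4 * 13 := by
    rw [card_isomGroup B E.form.alt E.form.nd (m := 2) (by rw [h4]), ← Nat.card_eq_fintype_card, hF5]
    norm_num [Finset.prod_range_succ]
  rw [h10] at h9
  have hp := hx.prime k
  rcases (Nat.Prime.dvd_mul hp).1 h9 with h | h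
  · rcases (Nat.Prime.dvd_mul hp).1 h with h | h
    · rcases (Nat.Prime.dvd_mul hp).1 h with h | h
      · exact absurd ((Nat.prime_dvd_prime_iff_eq hp Nat.prime_two).1 (hp.dvd_of_dvd_pow h)) h2
      · exact absurd ((Nat.prime_dvd_prime_iff_eq hp Nat.prime_three).1 (hp.dvd_of_dvd_pow h)) h3
    · exact absurd ((Nat.prime_dvd_prime_iff_eq hp Nat.prime_five).1 (hp.dvd_of_dvd_pow h)) h5
  · exact (Nat.prime_dvd_prime_iff_eq hp (by norm_num)).1 h

omit [Finite F] [FiniteDimensional F V] in
/-- an isometry of order `n` acting as a scalar on `W` is `1` on `W` -/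
theorem one_of_scal {n : ℕ} (hinj : Function.Injective (fun a : F => a ^ n)) {t : V ≃ₗ[F] V}
    (ht : ∀ v, t^[n] v = v) {c a : F} (hc : c ≠ 0) {W : Submodule F V} (h : ∀ v ∈ W, c • t v = a • v) :
    ∀ v ∈ W, t v = v := by
  have h7 : ∀ v ∈ W, t v = (c⁻¹ * a) • v := by
    intro v hv
    rw [mul_smul, ← h v hv, smul_smul, inv_mul_cancel₀ hc, one_smul]
  have h8 : ∀ (n : ℕ) (v : V), v ∈ W → t^[n] v = (c⁻¹ * a) ^ n • v := by
    intro n
    induction n with
    | zero => intro v _; rw [pow_zero, one_smul]; rfl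
    | succ n ih =>
      intro v hv
      rw [Function.iterate_succ_apply, h7 v hv, iter_smul (fun a v => _root_.map_smul t a v), ih v hv,
        smul_smul, pow_succ']
  intro v hv
  by_cases hv0 : v = 0
  · rw [hv0, _root_.map_zero]
  have h9 : (c⁻¹ * a) ^ n = 1 := by
    have h10 := h8 n v hv
    rw [ht] at h10
    have h11 : ((c⁻¹ * a) ^ n - 1) • v = 0 := by rw [sub_smul, one_smul, ← h10, sub_self]
    rcases smul_eq_zero.1 h11 with h12 | h12
    · exact sub_eq_zero.1 h12
    · exact absurd h12 hv0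
  have h10 : c⁻¹ * a = 1 := by
    apply hinj
    show (c⁻¹ * a) ^ n = 1 ^ n
    rw [h9, one_pow]
  rw [h7 v hv, h10, one_smul]

omit [Finite F] in
/-- a map commuting with `θ` and a nontrivial nilpotent `D`, of finite order prime to `p` modulo scalars, in dimension 4 -/
theorem in_quad {θ D : Module.End F V} {δ : F} (hδ : ¬ IsSquare δ) (hsq : ∀ v, θ (θ v) = δ • v)
    (hD : D ≠ 0) {m : ℕ} (hDm : D ^ m = 0) (hDθ : ∀ v, D (θ v) = θ (D v)) (h4 : finrank F V = 4)
    {L : Module.End F V} (hLθ : ∀ v, L (θ v) = θ (L v)) (hLD : ∀ v, L (D v) = D (L v)) {n : ℕ} (hn : (n : F) ≠ 0)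
    {β : F} (hβ : β ≠ 0) (hLn : ∀ v, L^[n] v = β • v) : ∃ a b : F, ∀ v, L v = a • v + b • θ v := by
  classical
  -- a vector
  obtain ⟨v, hv, hv2⟩ : ∃ v, D v ≠ 0 ∧ D (D v) = 0 := by
    have hex : ∃ k, D ^ k = 0 := ⟨m, hDm⟩
    have hmin := Nat.find_spec hex
    obtain ⟨k, hk⟩ : ∃ k, Nat.find hex = k + 2 := by
      rcases h : Nat.find hex with _ | _ | k
      · exfalso
        rw [h, pow_zero] at hmin
        apply hD
        have : D = D * 1 := (mul_one D).symm
        rw [this, hmin, mul_zero]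
      · exfalso
        rw [h, zero_add, pow_one] at hmin
        exact hD hmin
      · exact ⟨k, rfl⟩
    have h1 : D ^ (k + 1) ≠ 0 := Nat.find_min hex (by omega)
    obtain ⟨w, hw⟩ : ∃ w, (D ^ (k + 1)) w ≠ 0 := by
      by_contra hno
      push Not at hno
      exact h1 (LinearMap.ext hno)
    refine ⟨(D ^ k) w, ?_, ?_⟩
    · rw [← Module.End.mul_apply, ← pow_succ']
      exact hw
    · rw [← Module.End.mul_apply D (D ^ k), ← pow_succ', ← Module.End.mul_apply D (D ^ (k + 1)), ← pow_succ']
      have h2 : D ^ (k + 1 + 1) = 0 := by rw [← hmin, hk]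
      rw [h2]
      rfl
  set e := D v with he
  have hDe : D e = 0 := hv2
  have hDθe : D (θ e) = 0 := by rw [hDθ, hDe, _root_.map_zero]
  -- independence
  have hind : ∀ a b c d : F, a • v + b • θ v + (c • e + d • θ e) = 0 → a = 0 ∧ b = 0 ∧ c = 0 ∧ d = 0 := by
    intro a b c d h
    have h1 := congrArg D h
    simp only [map_add, _root_.map_smul, hDθ, hDe, _root_.map_zero, smul_zero, add_zero] at h1
    rw [← he] at h1
    obtain ⟨ha, hb⟩ := quad_inj hδ hsq hv h1
    rw [ha, hb, zero_smul, zero_smul, zero_add, zero_add] at h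
    obtain ⟨hc, hd⟩ := quad_inj hδ hsq hv h
    exact ⟨ha, hb, hc, hd⟩
  have hli : LinearIndependent F ![v, θ v, e, θ e] := by
    rw [Fintype.linearIndependent_iff]
    intro g hg
    rw [Fin.sum_univ_four] at hg
    change g 0 • v + g 1 • θ v + g 2 • e + g 3 • θ e = 0 at hg
    rw [add_assoc] at hg
    obtain ⟨h0, h1, h2, h3⟩ := hind _ _ _ _ hg
    intro k
    fin_cases k
    · exact h0
    · exact h1
    · exact h2
    · exact h3
  have hspan : ∀ w : V, ∃ a b c d : F, w = a • v + b • θ v + (c • e + d • θ e) := by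
    intro w
    have h1 : Submodule.span F (Set.range ![v, θ v, e, θ e]) = ⊤ := by
      apply Submodule.eq_top_of_finrank_eq
      rw [finrank_span_eq_card hli, h4]
      rfl
    have h2 : w ∈ Submodule.span F (Set.range ![v, θ v, e, θ e]) := by rw [h1]; trivial
    obtain ⟨g, hg⟩ := (Submodule.mem_span_range_iff_exists_fun F).1 h2
    rw [Fin.sum_univ_four] at hg
    change g 0 • v + g 1 • θ v + g 2 • e + g 3 • θ e = w at hg
    exact ⟨g 0, g 1, g 2, g 3, by rw [← hg, add_assoc]⟩
  obtain ⟨a, b, c, d, hLv⟩ := hspan (L v)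
  have hLe : L e = a • e + b • θ e := by
    rw [he, hLD, hLv]
    simp only [map_add, _root_.map_smul, hDθ, hDe, _root_.map_zero, smul_zero, add_zero, ← he]
  let α : Module.End F V := a • 1 + b • θ
  let γ : Module.End F V := c • 1 + d • θ
  have hα : ∀ w, α w = a • w + b • θ w := fun w => rfl
  have hγ : ∀ w, γ w = c • w + d • θ w := fun w => rfl
  have hLα : ∀ w, L (α w) = α (L w) := by
    intro w
    rw [hα, hα, _root_.map_add, _root_.map_smul, _root_.map_smul, hLθ]
  have hLγ : ∀ w, L (γ w) = γ (L w) := by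
    intro w
    rw [hγ, hγ, _root_.map_add, _root_.map_smul, _root_.map_smul, hLθ]
  have hDα : ∀ w, D (α w) = α (D w) := by
    intro w
    rw [hα, hα, _root_.map_add, _root_.map_smul, _root_.map_smul, hDθ]
  have hDγ : ∀ w, D (γ w) = γ (D w) := by
    intro w
    rw [hγ, hγ, _root_.map_add, _root_.map_smul, _root_.map_smul, hDθ]
  have hαγ : ∀ w, α (γ w) = γ (α w) := by
    intro w
    simp only [hα, hγ, _root_.map_add, _root_.map_smul, hsq, smul_add, smul_smul]
    rw [mul_comm a c, mul_comm b c, mul_comm a d, mul_left_comm b d δ]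
    abel
  have hLpow : ∀ (k : ℕ) (w : V), L ((α ^ k) w) = (α ^ k) (L w) := by
    intro k
    induction k with
    | zero => intro w; rfl
    | succ k ih =>
      intro w
      rw [pow_succ', Module.End.mul_apply, Module.End.mul_apply, hLα, ih]
  have hDpow : ∀ (k : ℕ) (w : V), D ((α ^ k) w) = (α ^ k) (D w) := by
    intro k
    induction k with
    | zero => intro w; rfl
    | succ k ih =>
      intro w
      rw [pow_succ', Module.End.mul_apply, Module.End.mul_apply, hDα, ih]
  have hγpow : ∀ (k : ℕ) (w : V), γ ((α ^ k) w) = (α ^ k) (γ w) := by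
    intro k
    induction k with
    | zero => intro w; rfl
    | succ k ih =>
      intro w
      rw [pow_succ', Module.End.mul_apply, Module.End.mul_apply, ← hαγ, ih]
  have hform : ∀ k : ℕ, ∃ p q : F, ∀ w, (α ^ k) w = p • w + q • θ w := by
    intro k
    induction k with
    | zero => exact ⟨1, 0, fun w => by rw [one_smul, zero_smul, add_zero]; rfl⟩
    | succ k ih =>
      obtain ⟨p, q, hpq⟩ := ih
      refine ⟨a * p + b * q * δ, a * q + b * p, fun w => ?_⟩
      rw [pow_succ', Module.End.mul_apply, hpq, hα]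
      simp only [_root_.map_add, _root_.map_smul, hsq, smul_add, smul_smul, add_smul]
      rw [mul_assoc b q δ]
      abel
  have hiter : ∀ k : ℕ, L^[k + 1] v = (α ^ (k + 1)) v + ((k + 1 : ℕ) : F) • (α ^ k) (γ e) := by
    intro k
    induction k with
    | zero =>
      show L v = _
      rw [zero_add, pow_one, pow_zero, Nat.cast_one, one_smul, hLv]
      rfl
    | succ k ih =>
      rw [Function.iterate_succ_apply', ih, _root_.map_add, _root_.map_smul, hLpow, hLpow, hLγ, hLv, hLe]
      have e1 : a • v + b • θ v + (c • e + d • θ e) = α v + γ e := rfl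
      have e2 : a • e + b • θ e = α e := rfl
      rw [e1, e2, _root_.map_add, ← hαγ, ← Module.End.mul_apply, ← pow_succ, ← Module.End.mul_apply (α ^ k) α,
        ← pow_succ, add_assoc]
      congr 1
      have e3 : ((k + 1 + 1 : ℕ) : F) = 1 + ((k + 1 : ℕ) : F) := by
        push_cast
        ring
      rw [e3, add_smul, one_smul]
  obtain ⟨k, rfl⟩ : ∃ k, n = k + 1 := by
    rcases n with _ | k
    · rw [Nat.cast_zero] at hn
      exact absurd rfl hn
    · exact ⟨k, rfl⟩
  have h1 := hiter k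
  rw [hLn] at h1
  -- apply `D`
  have h2 := congrArg D h1
  rw [_root_.map_add, _root_.map_smul, _root_.map_smul, hDpow, hDpow, hDγ, hDe, _root_.map_zero, _root_.map_zero,
    smul_zero, add_zero, ← he] at h2
  obtain ⟨p, q, hpq⟩ := hform (k + 1)
  have h3 : p = β ∧ q = 0 := by
    rw [hpq] at h2
    have h4 : (p - β) • e + q • θ e = 0 := by
      rw [sub_smul, h2]
      abel
    obtain ⟨h5, h6⟩ := quad_inj hδ hsq hv h4
    exact ⟨sub_eq_zero.1 h5, h6⟩
  obtain ⟨rfl, rfl⟩ := h3
  have h5 : ∀ w, (α ^ (k + 1)) w = p • w := fun w => by rw [hpq, zero_smul, add_zero]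
  rw [h5] at h1
  have h6 : (α ^ k) (γ e) = 0 := by
    have h7 : ((k + 1 : ℕ) : F) • (α ^ k) (γ e) = 0 := by
      have h8 := h1
      rw [eq_comm, add_eq_left] at h8
      exact h8
    rcases smul_eq_zero.1 h7 with h8 | h8
    · exact absurd h8 hn
    · exact h8
  have h7 : γ e = 0 := by
    have h8 := h5 (γ e)
    rw [pow_succ', Module.End.mul_apply, h6, _root_.map_zero] at h8
    rcases smul_eq_zero.1 h8.symm with h9 | h9
    · exact absurd h9 hβ
    · exact h9
  obtain ⟨hc0, hd0⟩ := quad_inj hδ hsq hv h7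
  refine ⟨a, b, fun w => ?_⟩
  have hLv' : L v = α v := by
    rw [hLv, hc0, hd0, zero_smul, zero_smul, add_zero, add_zero]
    rfl
  obtain ⟨a', b', c', d', rfl⟩ := hspan w
  have hLe' : L e = α e := hLe
  have hθα : ∀ w, α (θ w) = θ (α w) := by
    intro w
    rw [hα, hα, _root_.map_add, _root_.map_smul, _root_.map_smul]
  have e4 : ∀ x, α x = a • x + b • θ x := fun x => rfl
  rw [← e4]
  simp only [_root_.map_add, _root_.map_smul, hLθ, hLv', hLe', hθα]

/-- the case: no member of order 5, `X_2² = s²` -/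
theorem sq_case [Finite G] [Finite Ω] [Nonempty Ω] [Finite ι] (E : SpEnv Ω N ρ) (h2 : (2 : F) ≠ 0) (hx : PF x r)
    (hcov : Cov Ω x)
    (hM : ∀ i, Lf ρ (x i) (M i)) (hl : ∀ i, (M i).IsLin) (hF5 : Nat.card F = 5) (h4 : finrank F V = 4)
    (bDec : ∀ A : Submodule F V, A ≠ ⊥ → A ≠ ⊤ → (∀ a ∈ A, (∀ b ∈ A, B a b = 0) → a = 0) →
      (∀ i, ∀ v ∈ A, M i v ∈ A) → (∀ i, ¬ (r i).Coprime (Nat.card F) → ¬ (M i).ScalOn A) →
      (∀ i j, ¬ (M i).ScalOn A → ¬ (M j).ScalOn A → i = j) → False)
    (hall : ∀ k, (r k).Coprime (Nat.card F)) {i : ι} (hi : r i = 2) {s : F} (hs0 : s ≠ 0)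
    (hs : ∀ v, M i (M i v) = (s * s) • v) : False := by
  have hpow : ∀ i, ∃ b : F, b ≠ 0 ∧ ∀ v, (M i)^[r i] v = b • v := fun i => E.pow_scal (hM i) (hx.pow i)
  have hns : ¬ (M i).IsScal := fun h => hx.ne i ((E.eq_one_iff (hM i)).2 h)
  -- the eigenspaces
  let W : F → Submodule F V := fun c => LinearMap.eqLocus ((hl i).lin : V →ₗ[F] V) (c • LinearMap.id)
  have hW : ∀ c v, v ∈ W c ↔ M i v = c • v := fun c v => Iff.rfl
  have hWi : ∀ c k, ∀ v ∈ W c, M k v ∈ W c := by
    intro c k v hv
    rw [hW] at hv ⊢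
    rw [comm_all E hx hM hl i k v, hv, (hl k).map_smul]
  have hss : s ≠ -s := by
    intro h
    have h1 : 2 * s = 0 := by linear_combination h
    rcases mul_eq_zero.1 h1 with h | h
    · exact h2 h
    · exact hs0 h
  have hdis : Disjoint (W s) (W (-s)) := by
    rw [Submodule.disjoint_def]
    intro v h1 h3
    rw [hW] at h1 h3
    rw [h1] at h3
    have h5 : (s - -s) • v = 0 := by rw [sub_smul, h3, sub_self]
    rcases smul_eq_zero.1 h5 with h6 | h6
    · exact absurd (sub_eq_zero.1 h6) hss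
    · exact h6
  have hcod : ∀ v, ∃ a ∈ W s, ∃ b ∈ W (-s), v = a + b := by
    intro v
    refine ⟨(2 * s)⁻¹ • (s • v + M i v), ?_, (2 * s)⁻¹ • (s • v - M i v), ?_, ?_⟩
    · rw [hW, (hl i).map_smul, (M i).map_add, (hl i).map_smul, hs, smul_comm s (2 * s)⁻¹, smul_add s, smul_smul s s,
        add_comm]
    · rw [hW, (hl i).map_smul, (M i).map_sub, (hl i).map_smul, hs, smul_comm (-s) (2 * s)⁻¹, smul_sub (-s), smul_smul (-s) s]
      congr 1
      rw [neg_smul, neg_mul, neg_smul]
      abel
    · rw [← smul_add]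
      have e1 : s • v + M i v + (s • v - M i v) = (2 * s) • v := by
        rw [mul_smul, two_smul]
        abel
      rw [e1, smul_smul, inv_mul_cancel₀ (mul_ne_zero h2 hs0), one_smul]
  have hcompl : IsCompl (W s) (W (-s)) := by
    refine ⟨hdis, ?_⟩
    rw [codisjoint_iff, eq_top_iff]
    intro v _
    obtain ⟨a, ha, b, hb, e⟩ := hcod v
    rw [e]
    exact Submodule.add_mem_sup ha hb
  have hWtop : ∀ c, c ≠ 0 → W c ≠ ⊤ := by
    intro c hc h
    apply hns
    refine ⟨c, hc, fun v => ?_⟩
    rw [← hW, h]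
    trivial
  have hWbot : W s ≠ ⊥ := by
    intro h
    apply hWtop (-s) (neg_ne_zero.2 hs0)
    have h1 := hcompl.sup_eq_top
    rw [h, bot_sup_eq] at h1
    exact h1
  have hscal : (M i).ScalOn (W s) := ⟨s, hs0, fun v hv => hv⟩
  -- the multiplier
  have hl2 : (M i).l = s * s ∨ (M i).l = -(s * s) := by
    obtain ⟨w, hw⟩ := exists_vec E
    obtain ⟨w', hw'⟩ := E.form.exists_one hw
    have h1 : B (M i (M i w)) (M i (M i w')) = (M i).l * (M i).l := by
      rw [(hl i).form, (hl i).form, hw', mul_one]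
    rw [hs, hs, _root_.map_smul, LinearMap.map_smul₂, hw', smul_eq_mul, smul_eq_mul, mul_one] at h1
    have h3 : ((M i).l - s * s) * ((M i).l + s * s) = 0 := by linear_combination -h1
    rcases mul_eq_zero.1 h3 with h5 | h5
    · exact Or.inl (sub_eq_zero.1 h5)
    · exact Or.inr (eq_neg_of_add_eq_zero_left h5)
  -- at most one member is not scalar on a plane `W s`
  have hone : finrank F (W s) = 2 → ∀ k l, ¬ (M k).ScalOn (W s) → ¬ (M l).ScalOn (W s) → k = l := by
    intro hd k l hk hl'
    have h7 := ord_five hF5 (hl k) hd (hWi s k) (hx.prime k) (hall k) (hpow k) hk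
    have h8 := ord_five hF5 (hl l) hd (hWi s l) (hx.prime l) (hall l) (hpow l) hl'
    have h9 : ∀ m, r m = 2 → ¬ (M m).ScalOn (W s) → False := by
      intro m hm hmn
      have : m = i := hx.inj (by rw [hm, hi])
      rw [this] at hmn
      exact hmn hscal
    apply hx.inj
    rcases h7 with h7 | h7
    · exact (h9 k h7 hk).elim
    · rcases h8 with h8 | h8
      · exact (h9 l h8 hl').elim
      · rw [h7, h8]
  rcases hl2 with hmu | hmu
  · -- nondegenerate eigenspaces
    have horth : ∀ a ∈ W s, ∀ b ∈ W (-s), B a b = 0 := by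
      intro a ha b hb
      rw [hW] at ha hb
      have h1 := (hl i).form a b
      rw [ha, hb, hmu, _root_.map_smul, LinearMap.map_smul₂, smul_eq_mul, smul_eq_mul] at h1
      have h3 : (2 * (s * s)) * B a b = 0 := by linear_combination -h1
      rcases mul_eq_zero.1 h3 with h5 | h5
      · exact absurd h5 (mul_ne_zero h2 (mul_ne_zero hs0 hs0))
      · exact h5
    have hNd : Nd B (W s) := by
      intro a ha h
      apply E.form.nd
      intro y
      obtain ⟨y1, hy1, y2, hy2, rfl⟩ := hcod y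
      rw [map_add, h y1 hy1, horth a ha y2 hy2, add_zero]
    have hd : finrank F (W s) = 2 := by
      obtain ⟨k, hk⟩ := even_nd E.form hNd
      have h1 : 0 < finrank F (W s) := by
        rw [Nat.pos_iff_ne_zero]
        intro h0
        exact hWbot (Submodule.finrank_eq_zero.1 h0)
      have h3 : finrank F (W s) < finrank F V := Submodule.finrank_lt (hWtop s hs0)
      omega
    exact bDec (W s) hWbot (hWtop s hs0) hNd (hWi s) (fun k hk => absurd (hall k) hk) (hone hd)
  · have htis : ∀ c, c * c = s * s → ∀ a ∈ W c, ∀ b ∈ W c, B a b = 0 := by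
      intro c hc a ha b hb
      rw [hW] at ha hb
      have h1 := (hl i).form a b
      rw [ha, hb, hmu, _root_.map_smul, LinearMap.map_smul₂, smul_eq_mul, smul_eq_mul] at h1
      have h3 : (2 * (s * s)) * B a b = 0 := by linear_combination h1 - hc * B a b
      rcases mul_eq_zero.1 h3 with h5 | h5
      · exact absurd h5 (mul_ne_zero h2 (mul_ne_zero hs0 hs0))
      · exact h5
    have L : Cfsg.Agent.H686.RC.DD.LP B (W s) (W (-s)) :=
      ⟨E.form, hcompl, htis s rfl, htis (-s) (by ring)⟩
    have hd := L.finrank_two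
    exact Cfsg.Agent.H686.RC.DD.dead_D E h2 hx hcov hM hl hcompl (htis s rfl) (htis (-s) (by ring)) (hWi s) (hWi (-s))
      (hone (by omega)) (by omega)

/-- **D9**: `PSp_4(5)`, members of orders 2 and 3 present -/
theorem dead_five_of [Finite G] [Finite Ω] [Nonempty Ω] [Finite ι] (E : SpEnv Ω N ρ) (hIH : IH (Nat.card N))
    (hx : PF x r) (hcov : Cov Ω x)
    (hM : ∀ i, Lf ρ (x i) (M i)) (hl : ∀ i, (M i).IsLin) (hF5 : Nat.card F = 5) (h4 : finrank F V = 4)
    (bDec : ∀ A : Submodule F V, A ≠ ⊥ → A ≠ ⊤ → (∀ a ∈ A, (∀ b ∈ A, B a b = 0) → a = 0) →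
      (∀ i, ∀ v ∈ A, M i v ∈ A) → (∀ i, ¬ (r i).Coprime (Nat.card F) → ¬ (M i).ScalOn A) →
      (∀ i j, ¬ (M i).ScalOn A → ¬ (M j).ScalOn A → i = j) → False)
    (i j : ι) (hi : r i = 2) (hj : r j = 3) : False := by
  classical
  have := Fintype.ofFinite F
  have hcard : Fintype.card F = 5 := by rw [← Nat.card_eq_fintype_card, hF5]
  have hc5 : (5 : F) = 0 := by
    have h := FiniteField.cast_card_eq_zero F
    rw [hcard] at h
    exact_mod_cast h
  have h2 : (2 : F) ≠ 0 := by
    intro h
    have h1 : (1 : F) = 0 := by linear_combination hc5 - 2 * h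
    exact one_ne_zero h1
  have h3 : (3 : F) ≠ 0 := by
    intro h
    have h1 : (1 : F) = 0 := by linear_combination 2 * h - hc5
    exact one_ne_zero h1
  have hpow4 : ∀ a : F, a ≠ 0 → a * a ^ 3 = 1 := by
    intro a ha
    have h1 := FiniteField.pow_card_sub_one_eq_one a ha
    rw [hcard] at h1
    rw [← pow_succ']
    exact h1
  have hinj : Function.Injective (fun a : F => a ^ 3) := by
    intro a b hab
    change a ^ 3 = b ^ 3 at hab
    by_cases ha : a = 0
    · rw [ha, zero_pow three_ne_zero] at hab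
      rw [ha]
      exact (pow_eq_zero_iff three_ne_zero).1 hab.symm |>.symm
    · have hb : b ≠ 0 := by
        rintro rfl
        rw [zero_pow three_ne_zero] at hab
        exact ha ((pow_eq_zero_iff three_ne_zero).1 hab)
      have h5 := hpow4 a ha
      have h6 := hpow4 b hb
      rw [← h6, hab] at h5
      exact mul_right_cancel₀ (pow_ne_zero 3 hb) h5
  have hex : ¬ (Nat.card F = 3 ∧ finrank F V = 4) := by omega
  have hcomm := comm_all E hx hM hl
  have hpow : ∀ i, ∃ b : F, b ≠ 0 ∧ ∀ v, (M i)^[r i] v = b • v := fun i => E.pow_scal (hM i) (hx.pow i)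
  have hns : ∀ k, ¬ (M k).IsScal := fun k h => hx.ne k ((E.eq_one_iff (hM k)).2 h)
  obtain ⟨t, c, hc, hMt, hxt, htp⟩ := exists_isom E three_ne_zero hinj (hM j) (hl j) (by rw [← hj]; exact hx.pow j)
  have ht3 : ∀ v, t.1 (t.1 (t.1 v)) = v := htp
  have htc : ∀ k v, M k (t.1 v) = t.1 (M k v) := by
    intro k v
    have h7 := hcomm j k v
    rw [hMt, hMt, (hl k).map_smul] at h7
    have h8 := congrArg (fun w => c⁻¹ • w) h7
    simp only [smul_smul, inv_mul_cancel₀ hc, one_smul] at h8
    exact h8.symm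
  have ht1 : ¬ ∀ v, t.1 v = v := by
    intro h
    apply hns j
    exact ⟨c, hc, fun v => by rw [hMt, h]⟩
  -- the fixed space of `X_3`
  let V1 : Submodule F V := LinearMap.eqLocus (t.1 : V →ₗ[F] V) LinearMap.id
  have hV1 : ∀ v, v ∈ V1 ↔ t.1 v = v := fun v => Iff.rfl
  have hV1i : ∀ k, ∀ v ∈ V1, M k v ∈ V1 := by
    intro k v hv
    rw [hV1] at hv ⊢
    rw [← htc, hv]
  have hsum : ∀ v, v + t.1 v + t.1 (t.1 v) ∈ V1 := by
    intro v
    rw [hV1, _root_.map_add, _root_.map_add, ht3]
    abel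
  have hNd : Nd B V1 := by
    intro v hv h
    apply E.form.nd
    intro y
    have h5 := h _ (hsum y)
    have h6 : ∀ z, B v (t.1 z) = B v z := by
      intro z
      conv_lhs => rw [← (hV1 v).1 hv]
      exact t.2 v z
    rw [map_add, map_add, h6, h6, h6] at h5
    have h7 : 3 * B v y = 0 := by linear_combination h5
    rcases mul_eq_zero.1 h7 with h8 | h8
    · exact absurd h8 h3
    · exact h8
  have hV1top : V1 ≠ ⊤ := by
    intro h
    apply ht1
    intro v
    rw [← hV1, h]
    trivial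
  by_cases hV : V1 = ⊥
  swap
  · -- case (a)
    have hd : finrank F V1 = 2 := by
      obtain ⟨k, hk⟩ := even_nd E.form hNd
      have h1 : 0 < finrank F V1 := by
        rw [Nat.pos_iff_ne_zero]
        intro h0
        exact hV (Submodule.finrank_eq_zero.1 h0)
      have h3 : finrank F V1 < finrank F V := Submodule.finrank_lt hV1top
      omega
    have hjs : (M j).ScalOn V1 := ⟨c, hc, fun v hv => by rw [hMt, (hV1 v).1 hv]⟩
    refine plane_dead E hx hM hl hF5 bDec hV hV1top hNd hV1i hd ?_ ?_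
    · intro i0 hi0 hs0
      have hcp : CharP F (r i0) := charP_of hx hi0
      obtain ⟨u, d, hd0, hMu, hxu, hup⟩ := exists_unip E (hx.prime i0) (hM i0) (hl i0) (hx.pow i0)
      have : Fact (r i0).Prime := ⟨hx.prime i0⟩
      have hinj0 : Function.Injective (fun a : F => a ^ (r i0)) := frobenius_inj F (r i0)
      have hu1 : ∀ W : Submodule F V, (M i0).ScalOn W → ∀ v ∈ W, u.1 v = v := by
        rintro W ⟨a, -, ha⟩
        exact one_of_scal hinj0 hup hd0 (fun v hv => by rw [← hMu, ha v hv])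
      have hOn := nd_orth E.form hNd
      have hOi : ∀ k, ∀ v ∈ B.orthogonal V1, M k v ∈ B.orthogonal V1 := fun k => inv_orth E.form (hl k) (hV1i k)
      have hOd : finrank F (B.orthogonal V1) = 2 := by
        have := finrank_orth E.form hNd
        omega
      by_cases hs1 : (M i0).ScalOn (B.orthogonal V1)
      · apply hns i0
        refine ⟨d, hd0, fun v => ?_⟩
        obtain ⟨a, ha, b, hb, rfl⟩ := decomp E.form hNd v
        rw [hMu, _root_.map_add, hu1 V1 hs0 a ha, hu1 _ hs1 b hb]
      · have hui : ∀ v ∈ B.orthogonal V1, u.1 v ∈ B.orthogonal V1 := by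
          intro v hv
          have h7 := (B.orthogonal V1).smul_mem d⁻¹ (hOi i0 v hv)
          rw [hMu, smul_smul, inv_mul_cancel₀ hd0, one_smul] at h7
          exact h7
        have hne : ∃ v ∈ B.orthogonal V1, u.1 v ≠ v := by
          by_contra hno
          push Not at hno
          apply hs1
          refine ⟨d, hd0, fun v hv => ?_⟩
          rw [hMu, hno v hv]
        obtain ⟨e, -, -, c', -, -, hsc⟩ := plane_unip E.form (hx.prime i0) hup hOn hOd hui hne
        have hji : (M j).ScalOn (B.orthogonal V1) := by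
          refine hsc (M j) (r j) (hl j) (hOi j) ?_ ?_ ?_
          · intro v
            have h7 := hcomm i0 j v
            rw [hMu, hMu, (hl j).map_smul] at h7
            have h8 := congrArg (fun w => d⁻¹ • w) h7
            simp only [smul_smul, inv_mul_cancel₀ hd0, one_smul] at h8
            exact h8.symm
          · rw [hj]
            exact_mod_cast h3
          · obtain ⟨b, -, hb⟩ := hpow j
            exact ⟨b, hb⟩
        obtain ⟨a, -, ha⟩ := hji
        have h9 := one_of_scal hinj htp hc (W := B.orthogonal V1) (fun v hv => by rw [← hMt, ha v hv])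
        apply ht1
        intro v
        obtain ⟨a, ha, b, hb, rfl⟩ := decomp E.form hNd v
        rw [_root_.map_add, (hV1 a).1 ha, h9 b hb]
    · intro i' j' _ hj' _ hn
      have h5 : j' = j := hx.inj (by rw [hj', hj])
      rw [h5] at hn
      exact hn hjs
  -- case (b)
  have hq : ∀ v, v + t.1 v + t.1 (t.1 v) = 0 := by
    intro v
    have h5 := hsum v
    rw [hV, Submodule.mem_bot] at h5
    exact h5
  have htt : ∀ v, t.1 (t.1 v) = -v - t.1 v := by
    intro v
    have h5 := hq v
    rw [← sub_eq_zero, ← h5]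
    abel
  let θ : Module.End F V := (2 : F) • (t.1 : V →ₗ[F] V) + 1
  have hθ : ∀ v, θ v = (2 : F) • t.1 v + v := fun v => rfl
  have hsq : ∀ v, θ (θ v) = (-3 : F) • v := by
    intro v
    rw [hθ, hθ, _root_.map_add, _root_.map_smul, htt]
    have e1 : (2 : F) • ((2 : F) • (-v - t.1 v) + t.1 v) + ((2 : F) • t.1 v + v) =
      ((-3 : F) • v) := by
      simp only [smul_add, smul_sub, smul_neg, smul_smul]
      module
    exact e1
  have hδ : ¬ IsSquare (-3 : F) := by
    rintro ⟨a, ha⟩
    have ha0 : a ≠ 0 := by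
      rintro rfl
      apply h3
      linear_combination -ha
    have h5 := hpow4 a ha0
    have h6 : (1 : F) = 9 := by
      rw [← h5]
      linear_combination (-a * a + 3) * ha
    apply h3
    linear_combination -h6 - hc5
  have hθs : ∀ u v, B (θ u) v = - B u (θ v) := by
    intro u v
    rw [hθ, hθ, map_add, LinearMap.add_apply, LinearMap.map_smul₂, map_add, _root_.map_smul, smul_eq_mul, smul_eq_mul]
    have h5 : B (t.1 u) v = - B u v - B u (t.1 v) := by
      have h6 := t.2 (t.1 u) v
      rw [htt, map_sub, map_neg, LinearMap.sub_apply, LinearMap.neg_apply] at h6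
      have h7 := t.2 u v
      rw [← h6, h7]
      ring
    rw [h5]
    ring
  have hθc : ∀ k v, M k (θ v) = θ (M k v) := by
    intro k v
    rw [hθ, hθ, (M k).map_add, (hl k).map_smul, htc]
  have hjθ : ∃ a b : F, ∀ v, M j v = a • v + b • θ v := by
    refine ⟨-(c * 2⁻¹), c * 2⁻¹, fun v => ?_⟩
    rw [hMt, hθ, smul_add, smul_smul, mul_assoc, inv_mul_cancel₀ h2, mul_one, neg_smul]
    abel
  by_cases hu : ∃ i0, ¬ (r i0).Coprime (Nat.card F)
  · -- a member of order 5
    obtain ⟨i0, hi0⟩ := hu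
    have hcp : CharP F (r i0) := charP_of hx hi0
    obtain ⟨u, d, hd0, hMu, hxu, hup⟩ := exists_unip E (hx.prime i0) (hM i0) (hl i0) (hx.pow i0)
    have : Fact (r i0).Prime := ⟨hx.prime i0⟩
    obtain ⟨w0, hw0⟩ := exists_vec E
    have : Nontrivial V := ⟨⟨w0, 0, hw0⟩⟩
    have : CharP (Module.End F V) (r i0) :=
      charP_of_injective_algebraMap (algebraMap F (Module.End F V)).injective (r i0)
    let D : Module.End F V := (u.1 : V →ₗ[F] V) - 1
    have hD : ∀ v, D v = u.1 v - v := fun v => rfl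
    have hDp : D ^ (r i0) = 0 := by
      have h1 : D ^ (r i0) = (u.1 : V →ₗ[F] V) ^ (r i0) - 1 ^ (r i0) :=
        sub_pow_char_of_commute (r i0) (Commute.one_right _)
      rw [h1, one_pow, sub_eq_zero]
      apply LinearMap.ext
      intro v
      rw [Module.End.pow_apply]
      exact hup v
    have huc : ∀ k v, M k (u.1 v) = u.1 (M k v) := by
      intro k v
      have h7 := hcomm i0 k v
      rw [hMu, hMu, (hl k).map_smul] at h7
      have h8 := congrArg (fun w => d⁻¹ • w) h7
      simp only [smul_smul, inv_mul_cancel₀ hd0, one_smul] at h8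
      exact h8.symm
    have hut : ∀ v, u.1 (t.1 v) = t.1 (u.1 v) := by
      intro v
      have h7 := huc j v
      rw [hMt, hMt, _root_.map_smul] at h7
      have h8 := congrArg (fun w => c⁻¹ • w) h7
      simp only [smul_smul, inv_mul_cancel₀ hc, one_smul] at h8
      exact h8.symm
    have hD0 : D ≠ 0 := by
      intro h
      apply hns i0
      refine ⟨d, hd0, fun v => ?_⟩
      have h7 := LinearMap.congr_fun h v
      rw [hD, LinearMap.zero_apply, sub_eq_zero] at h7
      rw [hMu, h7]
    have hDθ : ∀ v, D (θ v) = θ (D v) := by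
      intro v
      rw [hD, hD, hθ, hθ, _root_.map_add, _root_.map_smul, hut, _root_.map_sub, smul_sub]
      abel
    refine Cfsg.Agent.H8.RC.dead_her E h2 hx hcov hM hl θ hδ hsq hθs hθc ?_ hex
    have key : ∀ k, k ≠ i0 → ∃ a b : F, ∀ v, M k v = a • v + b • θ v := by
      intro k hk
      obtain ⟨β, hβ, hβk⟩ := hpow k
      have hco : (r k).Coprime (Nat.card F) := by
        by_contra hno
        have h9 := charP_of hx hno
        exact hk (hx.inj (CharP.eq F h9 hcp))
      exact in_quad (θ := θ) (D := D) (L := ((hl k).lin : V →ₗ[F] V)) hδ hsq hD0 hDp hDθ h4 (fun v => hθc k v)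
        (fun v => by
          show M k (D v) = D (M k v)
          rw [hD, hD, (M k).map_sub, huc]) (cast_ne hco (hx.prime i0)) hβ hβk
    intro k l hk hl'
    have h7 : k = i0 := by
      by_contra h
      exact hk (key k h)
    have h8 : l = i0 := by
      by_contra h
      exact hl' (key l h)
    rw [h7, h8]
  push Not at hu
  obtain ⟨lam, hlam0, hlam⟩ := hpow i
  rw [hi] at hlam
  have hlam' : ∀ v, M i (M i v) = lam • v := hlam
  -- other primes
  have hother : ∀ k, k ≠ i → k ≠ j → r k = 13 := by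
    intro k hki hkj
    refine prime_five E hx hM hl hF5 h4 ?_ ?_ ?_
    · intro h
      exact hki (hx.inj (by rw [h, hi]))
    · intro h
      exact hkj (hx.inj (by rw [h, hj]))
    · intro h
      have := hu k
      rw [h, hF5] at this
      norm_num at this
  by_cases hsqr : IsSquare lam
  · obtain ⟨s, hs⟩ := hsqr
    have hs0 : s ≠ 0 := by
      rintro rfl
      rw [mul_zero] at hs
      exact hlam0 hs
    exact sq_case E h2 hx hcov hM hl hF5 h4 bDec hu hi hs0 (fun v => by rw [hlam', hs])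
  -- the multiplier
  have hl2 : (M i).l = lam ∨ (M i).l = -lam := by
    obtain ⟨w, hw⟩ := exists_vec E
    obtain ⟨w', hw'⟩ := E.form.exists_one hw
    have h1 : B (M i (M i w)) (M i (M i w')) = (M i).l * (M i).l := by
      rw [(hl i).form, (hl i).form, hw', mul_one]
    rw [hlam', hlam', _root_.map_smul, LinearMap.map_smul₂, hw', smul_eq_mul, smul_eq_mul, mul_one] at h1
    have h3 : ((M i).l - lam) * ((M i).l + lam) = 0 := by linear_combination -h1
    rcases mul_eq_zero.1 h3 with h5 | h5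
    · exact Or.inl (sub_eq_zero.1 h5)
    · exact Or.inr (eq_neg_of_add_eq_zero_left h5)
  rcases hl2 with hmu | hmu
  · exact Cfsg.Agent.H579.RC.dead_sym E hIH h2 hx hcov hM hl i hsqr hlam' hmu (fun h => by omega)
  -- `mu = -lam`
  obtain ⟨s, hs0, hs⟩ : ∃ s : F, s ≠ 0 ∧ s * s * lam = -3 := by
    have h30 : (-3 : F) ≠ 0 := neg_ne_zero.2 h3
    have hchar : ringChar F ≠ 2 := by
      intro h
      apply h2
      have h5 := (ringChar.spec F 2).2 (by rw [h])
      exact_mod_cast h5
    have hdi : ∀ a : F, a ≠ 0 → ¬ IsSquare a → a ^ 2 = -1 := by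
      intro a ha hn
      have h5 := FiniteField.pow_dichotomy hchar ha
      rw [hcard] at h5
      rcases h5 with h5 | h5
      · exfalso
        apply hn
        rw [FiniteField.isSquare_iff hchar ha, hcard]
        exact h5
      · exact h5
    have h5 : IsSquare (-3 * lam) := by
      rw [FiniteField.isSquare_iff hchar (mul_ne_zero h30 hlam0), hcard]
      show (-3 * lam) ^ 2 = 1
      rw [mul_pow, hdi _ h30 hδ, hdi _ hlam0 hsqr]
      ring
    obtain ⟨w, hw⟩ := h5
    refine ⟨w * lam⁻¹, ?_, ?_⟩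
    · refine mul_ne_zero ?_ (inv_ne_zero hlam0)
      rintro rfl
      rw [mul_zero] at hw
      exact mul_ne_zero h30 hlam0 hw
    · have e1 : w * lam⁻¹ * (w * lam⁻¹) * lam = (w * w) * lam⁻¹ * (lam⁻¹ * lam) := by ring
      rw [e1, inv_mul_cancel₀ hlam0, mul_one, ← hw, mul_assoc, mul_inv_cancel₀ hlam0, mul_one]
  have hbad : ∀ s : F, s ≠ 0 → (∀ v, θ v = s • M i v) → False := by
    intro s hs0 h
    have hiθ : ∃ a b : F, ∀ v, M i v = a • v + b • θ v :=
      ⟨0, s⁻¹, fun v => by rw [zero_smul, zero_add, h, smul_smul, inv_mul_cancel₀ hs0, one_smul]⟩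
    refine Cfsg.Agent.H8.RC.dead_her E h2 hx hcov hM hl θ hδ hsq hθs hθc ?_ hex
    intro k l hk hl'
    have h5 : ∀ m, (¬ ∃ a b : F, ∀ v, M m v = a • v + b • θ v) → r m = 13 := by
      intro m hm
      refine hother m ?_ ?_
      · rintro rfl
        exact hm hiθ
      · rintro rfl
        exact hm hjθ
    exact hx.inj (by rw [h5 k hk, h5 l hl'])
  let W : F → Submodule F V := fun c => LinearMap.eqLocus θ (c • ((hl i).lin : V →ₗ[F] V))
  have hW : ∀ c v, v ∈ W c ↔ θ v = c • M i v := fun c v => Iff.rfl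
  have hWi : ∀ c k, ∀ v ∈ W c, M k v ∈ W c := by
    intro c k v hv
    rw [hW] at hv ⊢
    rw [← hθc, hv, (hl k).map_smul, hcomm]
  have h6 : (-6 : F) ≠ 0 := by
    have : (-6 : F) = -(2 * 3) := by norm_num
    rw [this]
    exact neg_ne_zero.2 (mul_ne_zero h2 h3)
  have hcod1 : ∀ (c : F), c * c * lam = -3 → ∀ v, (-6 : F)⁻¹ • ((-3 : F) • v + c • M i (θ v)) ∈ W c := by
    intro c hc v
    rw [hW, (hl i).map_smul, (M i).map_add, (hl i).map_smul, (hl i).map_smul, hlam', _root_.map_smul, _root_.map_add,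
      _root_.map_smul, _root_.map_smul, ← hθc, hsq, (hl i).map_smul, smul_comm c (-6 : F)⁻¹, smul_add c,
      smul_smul c c, smul_smul (c * c) lam, hc, smul_comm c (-3 : F) (M i v)]
    congr 1
    abel
  have hcod : ∀ v, ∃ a ∈ W s, ∃ b ∈ W (-s), v = a + b := by
    intro v
    refine ⟨_, hcod1 s hs v, _, hcod1 (-s) (by rw [neg_mul_neg, hs]) v, ?_⟩
    rw [← smul_add]
    have e1 : (-3 : F) • v + s • M i (θ v) + ((-3 : F) • v + (-s) • M i (θ v)) = (-6 : F) • v := by
      rw [neg_smul s]
      have e2 : (-6 : F) • v = (-3 : F) • v + (-3 : F) • v := by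
        rw [← add_smul]
        norm_num
      rw [e2]
      abel
    rw [e1, smul_smul, inv_mul_cancel₀ h6, one_smul]
  have hiscal0 : ∀ v, M i v = 0 → v = 0 := fun v hv => (M i).injective (by rw [hv, (M i).map_zero])
  have hdis : Disjoint (W s) (W (-s)) := by
    rw [Submodule.disjoint_def]
    intro v h1 h5
    rw [hW] at h1 h5
    rw [h1] at h5
    have h7 : (2 * s) • M i v = 0 := by
      rw [two_mul, add_smul]
      nth_rewrite 2 [h5]
      rw [neg_smul, add_neg_cancel]
    rcases smul_eq_zero.1 h7 with h8 | h8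
    · exact absurd h8 (mul_ne_zero h2 hs0)
    · exact hiscal0 v h8
  have hcompl : IsCompl (W s) (W (-s)) := by
    refine ⟨hdis, ?_⟩
    rw [codisjoint_iff, eq_top_iff]
    intro v _
    obtain ⟨a, ha, b, hb, e⟩ := hcod v
    rw [e]
    exact Submodule.add_mem_sup ha hb
  have hWtop : ∀ c, c ≠ 0 → W c ≠ ⊤ := by
    intro c hc h
    refine hbad c hc fun v => ?_
    rw [← hW, h]
    trivial
  have hWbot : W s ≠ ⊥ := by
    intro h
    apply hWtop (-s) (neg_ne_zero.2 hs0)
    have h1 := hcompl.sup_eq_top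
    rw [h, bot_sup_eq] at h1
    exact h1
  have hWbot' : W (-s) ≠ ⊥ := by
    intro h
    apply hWtop s hs0
    have h1 := hcompl.sup_eq_top
    rw [h, sup_bot_eq] at h1
    exact h1
  have hd1 : 2 ≤ finrank F (W s) := two_le_of_quad hsqr (fun a v => (hl i).map_smul a v) hlam' hWbot (hWi s i)
  have hd2 : 2 ≤ finrank F (W (-s)) := two_le_of_quad hsqr (fun a v => (hl i).map_smul a v) hlam' hWbot' (hWi (-s) i)
  have hd3 := Submodule.finrank_add_eq_of_isCompl hcompl
  -- no other members
  have hno : ∀ k, k ≠ i → k ≠ j → False := by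
    intro k hki hkj
    have h13 := hother k hki hkj
    obtain ⟨β, hβ, hβk⟩ := hpow k
    have hsc : ∀ U : Submodule F V, finrank F U = 2 → (∀ v ∈ U, M k v ∈ U) → (M k).ScalOn U := by
      intro U hU hUi
      by_contra hn
      rcases ord_five hF5 (hl k) hU hUi (hx.prime k) (hu k) (hpow k) hn with h | h <;> omega
    obtain ⟨a, ha, hak⟩ := hsc (W s) (by omega) (hWi s k)
    obtain ⟨b, hb, hbk⟩ := hsc (W (-s)) (by omega) (hWi (-s) k)
    have hval : ∀ (U : Submodule F V) (a : F), U ≠ ⊥ → a ≠ 0 → (∀ v ∈ U, M k v = a • v) → a = β := by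
      intro U a hU ha h
      obtain ⟨v, hv, hv0⟩ := Submodule.exists_mem_ne_zero_of_ne_bot hU
      have h7 : ∀ n : ℕ, (M k)^[n] v = a ^ n • v := by
        intro n
        induction n with
        | zero => rw [pow_zero, one_smul]; rfl
        | succ n ih =>
          rw [Function.iterate_succ_apply', ih, (hl k).map_smul, h v hv, smul_smul, pow_succ]
      have h8 := h7 (r k)
      rw [hβk, h13] at h8
      have h9 : (β - a ^ 13) • v = 0 := by rw [sub_smul, h8, sub_self]
      rcases smul_eq_zero.1 h9 with h10 | h10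
      · have h11 := hpow4 a ha
        have h12 : a ^ 13 = (a * a ^ 3) ^ 3 * a := by ring
        rw [h12, h11, one_pow, one_mul] at h10
        exact (sub_eq_zero.1 h10).symm
      · exact absurd h10 hv0
    have ha' := hval _ a hWbot ha hak
    have hb' := hval _ b hWbot' hb hbk
    apply hns k
    refine ⟨β, hβ, fun v => ?_⟩
    obtain ⟨y1, hy1, y2, hy2, rfl⟩ := hcod v
    rw [(M k).map_add, hak y1 hy1, hbk y2 hy2, ha', hb', smul_add]
  refine Cfsg.Agent.H8.RC.dead_her E h2 hx hcov hM hl ((hl i).lin : V →ₗ[F] V) hsqr hlam' ?_ ?_ ?_ hex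
  · intro u v
    show B (M i u) v = - B u (M i v)
    have h7 : v = lam⁻¹ • M i (M i v) := by rw [hlam', smul_smul, inv_mul_cancel₀ hlam0, one_smul]
    conv_lhs => rw [h7]
    rw [_root_.map_smul, (hl i).form, hmu, smul_eq_mul, neg_mul, mul_neg, ← mul_assoc, inv_mul_cancel₀ hlam0, one_mul]
  · intro k v
    exact hcomm k i v
  · intro k l hk hl'
    have h7 : ∀ m, (¬ ∃ a b : F, ∀ v, M m v = a • v + b • ((hl i).lin : V →ₗ[F] V) v) → m = j := by
      intro m hm
      by_contra hmj
      by_cases hmi : m = i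
      · apply hm
        refine ⟨0, 1, fun v => ?_⟩
        rw [zero_smul, zero_add, one_smul, hmi]
        rfl
      · exact hno m hmi hmj
    rw [h7 k hk, h7 l hl']

end Cfsg.Agent.H810.RC
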